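import Groth.Agent.FlatDepth.AtPrime
import Groth.Agent.FlatDepth.RegHom
import Groth.Agent.Goren.MCMDepth
import Groth.Agent.CMFlat.Scheme
import Groth.Agent.GeomProp.BCStalk
import Groth.Agent.S0601
import Groth.Prelude.Def_Pi1
import Mathlib

/-!
Flat schemes over a normal base with reduced fibres and regular generic fibres are normal.
-/

set_option autoImplicit false
set_option linter.style.haveILetI false

universe u

open IsLocalRing CategoryTheory AlgebraicGeometry

namespace Groth.Agent.NormalScheme

/-- A reduced Noetherian local ring of positive dimension has positive depth. -/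
theorem one_le_depth (T : Type u) [CommRing T] [IsLocalRing T] [IsNoetherianRing T] [_root_.IsReduced T]
    (h : ringKrullDim T ≠ 0) : 1 ≤ LocCoh.depth T T := by
  refine Order.one_le_iff_pos.2 ((Goren.depth_pos_iff_exists T).2 ?_)
  by_contra hc
  push Not at hc
  obtain ⟨p, hp, hle⟩ := (Ideal.subset_union_prime_finite (minimalPrimes.finite_of_isNoetherianRing T)
    (f := id) ⊥ ⊥ (fun p hp _ _ => hp.1.1) (I := maximalIdeal T)).1 (fun a ha => by
      simp only [Set.mem_iUnion, SetLike.mem_coe, id, exists_prop]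
      by_contra hmem
      push Not at hmem
      refine hc a ha ?_
      intro x y hxy
      rw [← sub_eq_zero]
      refine (IsReduced.eq_zero _ ?_ : x - y = 0)
      rw [← mem_nilradical, nilradical, ← Ideal.sInf_minimalPrimes, Submodule.mem_sInf]
      intro q hq
      exact ((hq.1.1.mem_or_mem (show a * (x - y) ∈ q by
        rw [mul_sub, show a * x = a * y from hxy, sub_self]; exact q.zero_mem)).resolve_left (hmem q hq)))
  have hmax : maximalIdeal T ∈ minimalPrimes T :=
    (le_antisymm hle (le_maximalIdeal hp.1.1.ne_top)).symm ▸ hp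
  refine h ?_
  rw [← IsLocalRing.maximalIdeal_height_eq_ringKrullDim, (Ideal.height_eq_zero_iff (I := maximalIdeal T)).2 hmax]
  rfl

section Local

variable {R S : Type u} [CommRing R] [CommRing S] [IsLocalRing R] [IsLocalRing S] [IsNoetherianRing R]
  [IsNoetherianRing S] [Algebra R S] [IsLocalHom (algebraMap R S)] [Module.Flat R S]

/-- The local step. -/
theorem serre_step [IsDomain R] [IsIntegrallyClosed R]
    [IsLocalRing (S ⧸ (maximalIdeal R).map (algebraMap R S))]
    (hF : _root_.IsReduced (S ⧸ (maximalIdeal R).map (algebraMap R S)))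
    (hgen : ringKrullDim R = 0 → IsRegularLocalRing (S ⧸ (maximalIdeal R).map (algebraMap R S))) :
    FlatDepth.CondS 2 S ∧ (ringKrullDim S ≤ 1 → IsRegularLocalRing S) := by
  obtain ⟨c, e, hc, he, hce⟩ := CMFlat.dims (R := R) (S := S)
  obtain ⟨hR2, hR1⟩ := FlatDepth.normal_conditions R
  rcases Nat.eq_zero_or_pos c with rfl | hcpos
  · haveI := hgen (by rw [hc]; rfl)
    haveI := RegLoc.isDomain (A := S ⧸ (maximalIdeal R).map (algebraMap R S))
    haveI : IsIntegrallyClosed (S ⧸ (maximalIdeal R).map (algebraMap R S)) := RegLoc.isIntegrallyClosed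
    exact ⟨FlatDepth.condS_ascent (R := R) hR2 (FlatDepth.normal_conditions _).1,
      fun _ => FlatDepth.isRegularLocalRing_ascent (R := R) (hR1 (by rw [hc]; exact_mod_cast (zero_le_one (α := ℕ))))⟩
  · refine ⟨?_, fun h1 => ?_⟩
    · rw [FlatDepth.condS_iff hc] at hR2
      rw [FlatDepth.condS_iff hce, FlatDepth.depth_eq_add (R := R)]
      rcases Nat.eq_zero_or_pos e with rfl | hepos
      · exact (le_trans (by simp) hR2).trans le_self_add
      · have h3 : 1 ≤ LocCoh.depth (S ⧸ (maximalIdeal R).map (algebraMap R S))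
            (S ⧸ (maximalIdeal R).map (algebraMap R S)) := one_le_depth _ (by
          rw [he]; exact_mod_cast hepos.ne')
        have h4 : (1 : ℕ∞) ≤ LocCoh.depth R R := le_trans (by
          exact_mod_cast (le_min (by norm_num) hcpos : 1 ≤ min 2 c)) hR2
        refine le_trans ?_ (add_le_add h4 h3)
        calc ((min 2 (c + e) : ℕ) : ℕ∞) ≤ ((2 : ℕ) : ℕ∞) := Nat.cast_le.2 (min_le_left _ _)
          _ = 1 + 1 := by norm_num
    · rw [hce] at h1
      have hce1 : c + e ≤ 1 := by exact_mod_cast h1
      obtain ⟨rfl, rfl⟩ : c = 1 ∧ e = 0 := by omega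
      haveI : IsRegularLocalRing (S ⧸ (maximalIdeal R).map (algebraMap R S)) := by
        haveI : Ring.KrullDimLE 0 (S ⧸ (maximalIdeal R).map (algebraMap R S)) :=
          Ring.krullDimLE_iff.mpr (by rw [he])
        haveI : IsArtinianRing (S ⧸ (maximalIdeal R).map (algebraMap R S)) :=
          IsNoetherianRing.isArtinianRing_of_krullDimLE_zero
        haveI := hF
        letI := (IsArtinianRing.isField_of_isReduced_of_isLocalRing (S ⧸ (maximalIdeal R).map (algebraMap R S))).toField
        infer_instance
      exact FlatDepth.isRegularLocalRing_ascent (R := R) (hR1 (by rw [hc]; exact le_rfl))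

end Local

/-- Serre's conditions on all local rings imply normality of all local rings. -/
theorem isNormalScheme_of_serre (C : Scheme.{u}) [IsLocallyNoetherian C]
    (h : ∀ z : C, FlatDepth.CondS 2 (C.presheaf.stalk z) ∧
      (ringKrullDim (C.presheaf.stalk z) ≤ 1 → IsRegularLocalRing (C.presheaf.stalk z))) :
    Pi1.IsNormalScheme C := by
  intro x
  let T := C.presheaf.stalk x
  haveI := GrpField.flat_fromSpecStalk x
  have hE : ∀ (P : Ideal T) [P.IsPrime],
      Nonempty (C.presheaf.stalk (C.fromSpecStalk x ⟨P, ‹_›⟩) ≃+* Localization.AtPrime P) := fun P _ =>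
    ⟨(RingEquiv.ofBijective ((C.fromSpecStalk x).stalkMap ⟨P, ‹_›⟩).hom (GeomProp.bijective_stalkMap _ _)).trans
      (StructureSheaf.stalkIso _ _).toRingEquiv.symm⟩
  have h1 : LocCoh.HasRk 1 T := fun P _ hk => by
    obtain ⟨e⟩ := hE P
    haveI := (h (C.fromSpecStalk x ⟨P, ‹_›⟩)).2 (by
      rw [ringKrullDim_eq_of_ringEquiv e, IsLocalization.AtPrime.ringKrullDim_eq_height P (Localization.AtPrime P)]
      exact WithBot.coe_le_coe.2 hk)
    exact IsRegularLocalRing.of_ringEquiv e
  have h2 : LocCoh.HasSk 2 T T := (FlatDepth.hasSk_iff_condS 2 T).2 fun P _ => by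
    obtain ⟨e⟩ := hE P
    haveI : IsNoetherianRing (Localization.AtPrime P) := IsLocalization.isNoetherianRing P.primeCompl _ inferInstance
    exact (h (C.fromSpecStalk x ⟨P, ‹_›⟩)).1.of_ringEquiv e
  obtain ⟨hd, hic⟩ := (S0601.result T).2 ⟨h1, h2⟩ (maximalIdeal T)
  let e := (IsLocalization.atUnits T (maximalIdeal T).primeCompl
    (S := Localization.AtPrime (maximalIdeal T)) (fun x hx => notMem_maximalIdeal.1 hx)).toRingEquiv
  haveI := e.toMulEquiv.isDomain (Localization.AtPrime (maximalIdeal T))
  exact ⟨inferInstance, IsIntegrallyClosed.of_equiv e.symm⟩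

/-- Flat over normal, reduced fibres, regular fibres over the generic points: normal. -/
theorem isNormalScheme_of_flat {C S : Scheme.{u}} [IsLocallyNoetherian C] [IsLocallyNoetherian S] (f : C ⟶ S) [Flat f]
    (hS : Pi1.IsNormalScheme S) (hred : ∀ x : C, _root_.IsReduced ((f.fiber (f x)).presheaf.stalk (f.asFiber x)))
    (hgen : ∀ x : C, ringKrullDim (S.presheaf.stalk (f x)) = 0 →
      IsRegularLocalRing ((f.fiber (f x)).presheaf.stalk (f.asFiber x))) :
    Pi1.IsNormalScheme C := by
  refine isNormalScheme_of_serre C fun x => ?_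
  obtain ⟨_, _⟩ := hS (f x)
  obtain ⟨e⟩ := CMFlat.nonempty_fiberStalk_equiv f x
  letI := (f.stalkMap x).hom.toAlgebra
  haveI : IsLocalHom (algebraMap (S.presheaf.stalk (f x)) (C.presheaf.stalk x)) :=
    inferInstanceAs (IsLocalHom (f.stalkMap x).hom)
  haveI : Module.Flat (S.presheaf.stalk (f x)) (C.presheaf.stalk x) := Flat.stalkMap f x
  haveI : IsLocalRing (C.presheaf.stalk x ⧸
      (maximalIdeal (S.presheaf.stalk (f x))).map (algebraMap (S.presheaf.stalk (f x)) (C.presheaf.stalk x))) :=
    e.symm.isLocalRing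
  refine serre_step (R := S.presheaf.stalk (f x)) ?_ fun h0 => ?_
  · haveI := hred x
    exact isReduced_of_injective e.toRingHom e.injective
  · haveI := hgen x h0
    exact IsRegularLocalRing.of_ringEquiv e.symm

end Groth.Agent.NormalScheme
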