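import Groth.Agent.NormSect.Basic
import Groth.Agent.S14401
import Groth.Agent.FlatDepth.Formal
import Groth.Prelude.Def_Pi1
import Mathlib

/-!
Sections of Noetherian normal schemes form normal rings.
-/

set_option autoImplicit false
set_option linter.style.haveILetI false

universe u

open CategoryTheory AlgebraicGeometry TopologicalSpace

namespace Groth.Agent.NormalScheme

/-- Restriction to a clopen piece is a surjection split by an idempotent. -/
theorem exists_idempotent {X : Scheme.{u}} (Z Z' : X.Opens) (hcov : (⊤ : X.Opens) ≤ Z ⊔ Z') (hdis : Z ⊓ Z' = ⊥) :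
    (∀ s : Γ(X, Z), ∃ r : Γ(X, ⊤), X.presheaf.map (homOfLE le_top).op r = s) ∧
    ∃ e : Γ(X, ⊤), X.presheaf.map (homOfLE (le_top : Z ≤ ⊤)).op e = 1 ∧
      ∀ r : Γ(X, ⊤), X.presheaf.map (homOfLE (le_top : Z ≤ ⊤)).op r = 0 → r * e = 0 := by
  have hsub : Subsingleton Γ(X, Z ⊓ Z') := by
    rw [hdis]
    exact CommRingCat.subsingleton_of_isTerminal (Scheme.sheaf X).isTerminalOfEmpty
  have key : ∀ (s : Γ(X, Z)) (t : Γ(X, Z')), ∃ r : Γ(X, ⊤),
      X.presheaf.map (homOfLE le_top).op r = s ∧ X.presheaf.map (homOfLE le_top).op r = t := fun s t => by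
    let U : Bool → X.Opens := fun b => if b then Z else Z'
    let sf : ∀ b, Γ(X, U b) := fun b => Bool.rec t s b
    obtain ⟨r, hr, -⟩ := X.sheaf.existsUnique_gluing' U ⊤ (fun b => homOfLE le_top)
      (hcov.trans (sup_le (le_iSup U true) (le_iSup U false))) sf (fun i j => by
        cases i <;> cases j
        · rfl
        · haveI : Subsingleton Γ(X, U false ⊓ U true) := by
            change Subsingleton Γ(X, Z' ⊓ Z)
            rwa [inf_comm]
          exact Subsingleton.elim (α := Γ(X, U false ⊓ U true)) _ _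
        · haveI : Subsingleton Γ(X, U true ⊓ U false) := hsub
          exact Subsingleton.elim (α := Γ(X, U true ⊓ U false)) _ _
        · rfl)
    exact ⟨r, hr true, hr false⟩
  refine ⟨fun s => let ⟨r, hr, _⟩ := key s 0; ⟨r, hr⟩, ?_⟩
  obtain ⟨e, he, he'⟩ := key 1 0
  refine ⟨e, he, fun r hr => X.sheaf.eq_of_locally_eq₂ (homOfLE (le_top : Z ≤ ⊤)) (homOfLE (le_top : Z' ≤ ⊤)) hcov
    (r * e) 0 ?_ ?_⟩
  · show X.presheaf.map _ (r * e) = X.presheaf.map _ 0
    rw [map_mul, map_zero, hr, zero_mul]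
  · show X.presheaf.map _ (r * e) = X.presheaf.map _ 0
    rw [map_mul, map_zero, he', mul_zero]

/-- A ring with a normal-domain factor at every prime is normal. -/
theorem normal_at_of_idempotent {R B : Type u} [CommRing R] [CommRing B] [IsDomain B] [IsIntegrallyClosed B]
    (π : R →+* B) (hπ : Function.Surjective π) (e : R) (hker : ∀ r, π r = 0 → r * e = 0) (p : Ideal R) [p.IsPrime]
    (he : e ∉ p) : IsDomain (Localization.AtPrime p) ∧ IsIntegrallyClosed (Localization.AtPrime p) := by
  let q : Ideal B := p.map π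
  have hkerp : RingHom.ker π ≤ p := fun z hz =>
    (‹p.IsPrime›.mem_or_mem (hker z hz ▸ p.zero_mem)).resolve_right he
  haveI hq : q.IsPrime := Ideal.map_isPrime_of_surjective hπ hkerp
  have hcomap : q.comap π = p := by
    rw [Ideal.comap_map_of_surjective π hπ, sup_eq_left]
    exact hkerp
  haveI hint : IsIntegrallyClosed (Localization.AtPrime q) :=
    isIntegrallyClosed_of_isLocalization (Localization.AtPrime q) q.primeCompl
      (Ideal.primeCompl_le_nonZeroDivisors q)
  letI := ((algebraMap B (Localization.AtPrime q)).comp π).toAlgebra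
  have hmem : ∀ z, π z ∈ q ↔ z ∈ p := fun z => by rw [← Ideal.mem_comap, hcomap]
  haveI : IsLocalization p.primeCompl (Localization.AtPrime q) := by
    refine ⟨fun y => IsLocalization.map_units (Localization.AtPrime q)
      (⟨π y, fun h => y.2 ((hmem _).mp h)⟩ : q.primeCompl), fun w => ?_, fun {a b} h => ?_⟩
    · obtain ⟨⟨x, s⟩, h⟩ := IsLocalization.surj q.primeCompl w
      obtain ⟨x', rfl⟩ := hπ x
      obtain ⟨s', hs'⟩ := hπ (s : B)
      refine ⟨⟨x', ⟨s', fun hmem' => s.2 (hs' ▸ (hmem _).mpr hmem')⟩⟩, ?_⟩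
      show w * algebraMap B _ (π s') = algebraMap B _ (π x')
      rw [hs']
      exact h
    · obtain ⟨⟨c, hc⟩, hcab⟩ := (IsLocalization.eq_iff_exists q.primeCompl (Localization.AtPrime q)).mp h
      obtain ⟨c', rfl⟩ := hπ c
      have h0 : π (c' * a - c' * b) = 0 := by rw [map_sub, map_mul, map_mul]; exact sub_eq_zero.mpr hcab
      have h1 := hker _ h0
      refine ⟨⟨c' * e, fun hm =>
        (‹p.IsPrime›.mem_or_mem hm).elim (fun h => hc ((hmem _).mpr h)) he⟩, ?_⟩
      rw [sub_mul, sub_eq_zero] at h1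
      show c' * e * a = c' * e * b
      rw [mul_right_comm, h1, mul_right_comm]
  let E := IsLocalization.algEquiv p.primeCompl (Localization.AtPrime p) (Localization.AtPrime q)
  have hdom : IsDomain (Localization.AtPrime q) :=
    IsLocalization.isDomain_localization (Ideal.primeCompl_le_nonZeroDivisors q)
  exact ⟨E.toMulEquiv.isDomain _, IsIntegrallyClosed.of_equiv (R := Localization.AtPrime q) E.toRingEquiv.symm⟩

/-- Global sections of a Noetherian normal scheme form a normal ring. -/
theorem isNormalRing_global (X : Scheme.{u}) [IsNoetherian X] (hX : Pi1.IsNormalScheme X) :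
    EGA4.IsNormalRing Γ(X, ⊤) := by
  classical
  intro p hp
  haveI := hp
  obtain ⟨hopen, huniq⟩ := S14401.result X fun x => (hX x).1
  have hfin : (irreducibleComponents (X : Type u)).Finite := NoetherianSpace.finite_irreducibleComponents
  haveI := hfin.to_subtype
  haveI := Fintype.ofFinite (irreducibleComponents (X : Type u))
  let Z : irreducibleComponents (X : Type u) → X.Opens := fun C => ⟨C.1, hopen C.1 C.2⟩
  have hdata := fun C : irreducibleComponents (X : Type u) => exists_idempotent (Z C)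
    ⟨C.1ᶜ, (isClosed_of_mem_irreducibleComponents _ C.2).isOpen_compl⟩
    (fun x _ => (em (x ∈ C.1)).imp id id) (Opens.ext (Set.inter_compl_self C.1))
  choose hsurj e he1 hke using hdata
  obtain ⟨C, hC⟩ : ∃ C, e C ∉ p := by
    by_contra h
    push Not at h
    have h0 : ∏ C, (1 - e C) = 0 := by
      refine X.sheaf.eq_of_locally_eq' Z ⊤ (fun C => homOfLE le_top) (fun x _ => ?_) _ _ fun C => ?_
      · obtain ⟨W, ⟨hW, hxW⟩, -⟩ := huniq x
        exact Opens.mem_iSup.2 ⟨⟨W, hW⟩, hxW⟩
      · show X.presheaf.map _ (∏ C, (1 - e C)) = X.presheaf.map _ 0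
        rw [map_prod, map_zero]
        exact Finset.prod_eq_zero (Finset.mem_univ C) (by rw [map_sub, map_one, he1, sub_self])
    obtain ⟨C, -, hC⟩ := (Ideal.IsPrime.prod_mem_iff (p := p)).1 (h0 ▸ p.zero_mem : ∏ C, (1 - e C) ∈ p)
    exact hp.ne_top ((Ideal.eq_top_iff_one _).2 (by simpa using p.add_mem hC (h C)))
  haveI : IsReduced X := by
    haveI : ∀ x : X, _root_.IsReduced (X.presheaf.stalk x) := fun x => haveI := (hX x).1; inferInstance
    exact isReduced_of_isReduced_stalk X
  haveI : Nonempty (Z C).toScheme := C.2.1.1.to_subtype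
  haveI : IrreducibleSpace (Z C).toScheme := Subtype.irreducibleSpace C.2.1
  haveI : IsIntegral (Z C).toScheme := isIntegral_of_irreducibleSpace_of_isReduced _
  let Y := (Z C).toScheme
  haveI : Nonempty (⊤ : Y.Opens) := ⟨⟨Classical.arbitrary Y, trivial⟩⟩
  haveI : IsIntegrallyClosed Γ(Y, ⊤) := NormSect.isIntegrallyClosed_sections ⊤ fun z _ => by
    haveI := (hX ((Z C).ι z)).2
    exact IsIntegrallyClosed.of_equiv (R := X.presheaf.stalk ((Z C).ι z))
      (asIso ((Z C).ι.stalkMap z)).commRingCatIsoToRingEquiv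
  let t := (Z C).topIso.commRingCatIsoToRingEquiv
  haveI : IsDomain Γ(X, Z C) := t.symm.toMulEquiv.isDomain Γ(Y, ⊤)
  haveI : IsIntegrallyClosed Γ(X, Z C) := IsIntegrallyClosed.of_equiv (R := Γ(Y, ⊤)) t
  exact normal_at_of_idempotent (X.presheaf.map (homOfLE (le_top : Z C ≤ ⊤)).op).hom (hsurj C) (e C) (hke C) p hC

/-- Sections of a Noetherian normal scheme form normal rings. -/
theorem isNormalRing_sections (X : Scheme.{u}) [IsNoetherian X] (hX : Pi1.IsNormalScheme X) (W : X.Opens) :
    EGA4.IsNormalRing Γ(X, W) := by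
  haveI : CompactSpace W.toScheme := isCompact_iff_compactSpace.1 (NoetherianSpace.isCompact (W : Set X))
  haveI : IsNoetherian W.toScheme := ⟨⟩
  refine FlatDepth.isNormalRing_of_equiv W.topIso.commRingCatIsoToRingEquiv
    (isNormalRing_global W.toScheme fun z => ?_)
  obtain ⟨_, _⟩ := hX (W.ι z)
  let f := (asIso (W.ι.stalkMap z)).commRingCatIsoToRingEquiv
  exact ⟨f.symm.toMulEquiv.isDomain (X.presheaf.stalk (W.ι z)),
    IsIntegrallyClosed.of_equiv (R := X.presheaf.stalk (W.ι z)) f⟩

/-- A scheme onto which a Noetherian normal scheme pushes forward its structure sheaf is normal. -/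
theorem isNormalScheme_of_app_iso {X Y : Scheme.{u}} [IsNoetherian X] (f : X ⟶ Y) (hf : ∀ y : Y, ∃ V : Y.Opens, IsAffineOpen V ∧ y ∈ V ∧ IsIso (f.app V))
    (hX : Pi1.IsNormalScheme X) : Pi1.IsNormalScheme Y := fun y => by
  obtain ⟨V, hV, hyV, hiso⟩ := hf y
  have hR : EGA4.IsNormalRing Γ(Y, V) := FlatDepth.isNormalRing_of_equiv
    (asIso (f.app V)).commRingCatIsoToRingEquiv.symm (isNormalRing_sections X hX (f ⁻¹ᵁ V))
  let p := (hV.primeIdealOf ⟨y, hyV⟩).asIdeal
  obtain ⟨_, _⟩ := hR p
  letI : Algebra Γ(Y, V) (Y.presheaf.stalk y) := TopCat.Presheaf.algebra_section_stalk Y.presheaf ⟨y, hyV⟩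
  haveI := hV.isLocalization_stalk ⟨y, hyV⟩
  let e : Localization.AtPrime p ≃+* Y.presheaf.stalk y :=
    (IsLocalization.algEquiv p.primeCompl (Localization.AtPrime p) (Y.presheaf.stalk y)).toRingEquiv
  exact ⟨e.symm.toMulEquiv.isDomain (Localization.AtPrime p),
    IsIntegrallyClosed.of_equiv (R := Localization.AtPrime p) e⟩

end Groth.Agent.NormalScheme
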